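import Mathlib.RingTheory.Etale.Kaehler
import Mathlib.RingTheory.Etale.Field
import Mathlib.RingTheory.Smooth.Field
import Mathlib.RingTheory.PowerSeries.Derivative
import Mathlib.RingTheory.PowerSeries.Inverse
import Mathlib.RingTheory.AlgebraicIndependent.TranscendenceBasis
import Mathlib.Algebra.MvPolynomial.Derivation
import Mathlib.LinearAlgebra.Dimension.Finrank

/-!
# Derivations with prescribed values and modules killed by derivatives (helper997, S16926, block KS/DVR)

* `exists_der`: a derivation with prescribed values at algebraically independent elements;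
* `cw D`: the coefficientwise extension of a derivation to power series;
* `exists_gen`, `gen_killed`: the abstract KS4 over `Ω⟦X⟧`;
* `finrank_le_one`, `subsingleton_of_indep`: the abstract KS3 over `Ω`.
-/

set_option autoImplicit false

namespace K997.KsAlg

open TensorProduct

universe u

section ext

/-- A derivation extends along a formally etale ring map. -/
theorem exists_ext {k R L : Type*} [CommRing k] [CommRing R] [CommRing L] [Algebra k R]
    [Algebra k L] [Algebra R L] [IsScalarTower k R L] [Algebra.FormallyEtale R L] (D : Derivation k R L) :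
    ∃ D' : Derivation k L L, ∀ r, D' (algebraMap R L r) = D r := by
  let Φ : Ω[L⁄k] →ₗ[L] L := (LinearMap.liftBaseChange L D.liftKaehlerDifferential) ∘ₗ
    (KaehlerDifferential.tensorKaehlerEquivOfFormallyEtale k R L).symm.toLinearMap
  refine ⟨Φ.compDer (KaehlerDifferential.D k L), fun r => ?_⟩
  change Φ (KaehlerDifferential.D k L (algebraMap R L r)) = _
  simp only [Φ, LinearMap.comp_apply, LinearEquiv.coe_coe,
    KaehlerDifferential.tensorKaehlerEquivOfFormallyEtale_symm_D_algebraMap]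
  simp

variable {k Ω : Type*} [Field k] [CharZero k] [Field Ω] [Algebra k Ω]

open scoped IntermediateField.algebraAdjoinAdjoin in
theorem formallyEtale_aeval {ι : Type*} {x : ι → Ω} (hx : IsTranscendenceBasis k x) :
    letI : Algebra (MvPolynomial ι k) Ω := (MvPolynomial.aeval x).toRingHom.toAlgebra
    Algebra.FormallyEtale (MvPolynomial ι k) Ω := by
  letI : Algebra (MvPolynomial ι k) Ω := (MvPolynomial.aeval x).toRingHom.toAlgebra
  have hΩ : CharZero Ω := charZero_of_injective_algebraMap (algebraMap k Ω).injective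
  letI : Algebra (MvPolynomial ι k) (Algebra.adjoin k (Set.range x)) := hx.1.aevalEquiv.toRingEquiv.toRingHom.toAlgebra
  have h0 : IsScalarTower (MvPolynomial ι k) (Algebra.adjoin k (Set.range x)) Ω := by
    refine IsScalarTower.of_algebraMap_eq fun p => ?_
    exact (hx.1.algebraMap_aevalEquiv p).symm
  have h1 : Algebra.FormallyEtale (MvPolynomial ι k) (Algebra.adjoin k (Set.range x)) :=
    Algebra.FormallyEtale.of_equiv
      (AlgEquiv.ofRingEquiv (f := hx.1.aevalEquiv.toRingEquiv) fun _ => rfl :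
        MvPolynomial ι k ≃ₐ[MvPolynomial ι k] Algebra.adjoin k (Set.range x))
  have h2 : Algebra.FormallyEtale (Algebra.adjoin k (Set.range x)) (IntermediateField.adjoin k (Set.range x)) :=
    .of_isLocalization (nonZeroDivisors _)
  have halg : Algebra.IsAlgebraic (IntermediateField.adjoin k (Set.range x)) Ω := hx.isAlgebraic_field
  have h3 : Algebra.FormallyEtale (IntermediateField.adjoin k (Set.range x)) Ω :=
    Algebra.FormallyEtale.of_isSeparable _ Ω
  have h4 : Algebra.FormallyEtale (Algebra.adjoin k (Set.range x)) Ω :=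
    .comp _ (IntermediateField.adjoin k (Set.range x)) _
  exact .comp _ (Algebra.adjoin k (Set.range x)) _

/-- **Derivations with prescribed values.** -/
theorem exists_der {ι : Type*} {x : ι → Ω} (hx : AlgebraicIndependent k x) (v : ι → Ω) :
    ∃ D : Derivation k Ω Ω, ∀ i, D (x i) = v i := by
  classical
  obtain ⟨s, hs, hb⟩ := exists_isTranscendenceBasis_superset hx.to_subtype_range
  letI : Algebra (MvPolynomial s k) Ω := (MvPolynomial.aeval (Subtype.val : s → Ω)).toRingHom.toAlgebra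
  have h0 : IsScalarTower k (MvPolynomial s k) Ω := by
    refine IsScalarTower.of_algebraMap_eq fun p => ?_
    exact ((MvPolynomial.aeval (Subtype.val : s → Ω)).commutes p).symm
  have h1 : Algebra.FormallyEtale (MvPolynomial s k) Ω := formallyEtale_aeval hb
  let w : s → Ω := fun y => if h : ∃ i, x i = y.1 then v h.choose else 0
  obtain ⟨D, hD⟩ := exists_ext (MvPolynomial.mkDerivation k w)
  refine ⟨D, fun i => ?_⟩
  have h2 := hD (MvPolynomial.X ⟨x i, hs ⟨i, rfl⟩⟩)
  rw [MvPolynomial.mkDerivation_X] at h2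
  have h3 : algebraMap (MvPolynomial s k) Ω (MvPolynomial.X ⟨x i, hs ⟨i, rfl⟩⟩) = x i :=
    MvPolynomial.aeval_X _ _
  rw [h3] at h2
  rw [h2]
  have h4 : ∃ j, x j = x i := ⟨i, rfl⟩
  have h5 : h4.choose = i := hx.injective h4.choose_spec
  simp only [w]
  rw [dif_pos h4, h5]

end ext

section cw

variable {k Ω : Type*} [CommRing k] [CommRing Ω] [Algebra k Ω]

open PowerSeries

/-- The coefficientwise extension of a derivation. -/
noncomputable def cw (D : Derivation k Ω Ω) : Derivation k Ω⟦X⟧ Ω⟦X⟧ where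
  toFun f := PowerSeries.mk fun n => D (coeff n f)
  map_add' f g := by
    ext n
    simp
  map_smul' a f := by
    ext n
    simp
  map_one_eq_zero' := by
    ext n
    change coeff n (PowerSeries.mk fun n => D (coeff n 1)) = _
    rw [coeff_mk, coeff_one]
    split_ifs <;> simp
  leibniz' f g := by
    ext n
    change coeff n (PowerSeries.mk fun n => D (coeff n (f * g))) =
      coeff n (f • (PowerSeries.mk fun n => D (coeff n g)) + g • (PowerSeries.mk fun n => D (coeff n f)))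
    rw [coeff_mk, smul_eq_mul, smul_eq_mul, map_add, coeff_mul, coeff_mul, mul_comm g, coeff_mul, map_sum,
      ← Finset.sum_add_distrib]
    refine Finset.sum_congr rfl fun p _ => ?_
    rw [D.leibniz, coeff_mk, coeff_mk, smul_eq_mul, smul_eq_mul, mul_comm (coeff p.2 g)]

@[simp] theorem coeff_cw (D : Derivation k Ω Ω) (f : Ω⟦X⟧) (n : ℕ) : coeff n (cw D f) = D (coeff n f) :=
  coeff_mk n fun n => D (coeff n f)

@[simp] theorem cw_C (D : Derivation k Ω Ω) (a : Ω) : cw D (C a) = C (D a) := by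
  ext n
  rw [coeff_cw, coeff_C, coeff_C]
  split_ifs <;> simp

@[simp] theorem cw_X (D : Derivation k Ω Ω) : cw D (X : Ω⟦X⟧) = 0 := by
  ext n
  rw [coeff_cw, coeff_X]
  split_ifs <;> simp

/-- The derivative as a `k`-linear derivation. -/
noncomputable def dX (k Ω : Type*) [CommRing k] [CommRing Ω] [Algebra k Ω] : Derivation k Ω⟦X⟧ Ω⟦X⟧ :=
  (PowerSeries.derivative Ω).restrictScalars k

theorem dX_apply (f : Ω⟦X⟧) : dX k Ω f = PowerSeries.derivative Ω f := rfl

end cw

section ks4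

open PowerSeries

variable {k Ω : Type*} [Field k] [CharZero k] [Field Ω] [Algebra k Ω] {ι : Type*} [Fintype ι]
  {H : Type*} [AddCommGroup H] [Module Ω⟦X⟧ H]

/-- A linear map from `R^ι` is determined by the values at the constant vectors. -/
theorem mem_of_const {κ : (ι → Ω⟦X⟧) →ₗ[Ω⟦X⟧] H} {N : Submodule Ω⟦X⟧ H}
    (h : ∀ v : ι → Ω, κ (fun i => C (v i)) ∈ N) (w : ι → Ω⟦X⟧) : κ w ∈ N := by
  classical
  have h1 : w = ∑ i, w i • (fun j => C (if j = i then (1 : Ω) else 0)) := by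
    funext j
    simp [Finset.sum_apply]
  rw [h1, map_sum]
  refine N.sum_mem fun i _ => ?_
  rw [map_smul]
  exact N.smul_mem _ (h _)

/-- **The abstract KS4**: generation. -/
theorem exists_gen {α β : ι → Ω} (hαβ : AlgebraicIndependent k (Sum.elim α β)) (t : Ω⟦X⟧)
    (κ : (ι → Ω⟦X⟧) →ₗ[Ω⟦X⟧] H) (hκ : Function.Surjective κ)
    (hD : ∀ D : Derivation k Ω⟦X⟧ Ω⟦X⟧, κ (fun i => D (C (α i) + t * C (β i))) = 0) (h : H) :
    ∃ a : Ω⟦X⟧, h = a • κ (fun i => C (β i)) := by
  let N : Submodule Ω⟦X⟧ H := Submodule.span Ω⟦X⟧ {κ (fun i => C (β i))}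
  have h1 : ∀ v : ι → Ω, κ (fun i => C (v i)) ∈ N := by
    intro v
    obtain ⟨D, hD'⟩ := exists_der hαβ (Sum.elim v 0)
    have h2 : ∀ i, D (α i) = v i := fun i => hD' (Sum.inl i)
    have h3 : ∀ i, D (β i) = 0 := fun i => hD' (Sum.inr i)
    have h4 := hD (cw D)
    have h5 : (fun i => cw D (C (α i) + t * C (β i))) = (fun i => C (v i)) + cw D t • (fun i => C (β i)) := by
      funext i
      simp only [map_add, Derivation.leibniz, cw_C, h2, h3, map_zero, Pi.add_apply,
        Pi.smul_apply, smul_eq_mul]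
      ring
    rw [h5, map_add, map_smul] at h4
    rw [eq_neg_of_add_eq_zero_left h4]
    exact N.neg_mem (N.smul_mem _ (Submodule.mem_span_singleton_self _))
  obtain ⟨w, rfl⟩ := hκ h
  obtain ⟨a, ha⟩ := Submodule.mem_span_singleton.1 (mem_of_const h1 w)
  exact ⟨a, ha.symm⟩

omit [CharZero k] [Fintype ι] in
/-- **The abstract KS4**: the generator is killed by the derivative of `t`. -/
theorem deriv_smul {α β : ι → Ω} (t : Ω⟦X⟧) (κ : (ι → Ω⟦X⟧) →ₗ[Ω⟦X⟧] H)
    (hD : ∀ D : Derivation k Ω⟦X⟧ Ω⟦X⟧, κ (fun i => D (C (α i) + t * C (β i))) = 0) :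
    PowerSeries.derivative Ω t • κ (fun i => C (β i)) = 0 := by
  have h4 := hD (dX k Ω)
  have h5 : (fun i => dX k Ω (C (α i) + t * C (β i))) = PowerSeries.derivative Ω t • (fun i => C (β i)) := by
    funext i
    simp only [map_add, Derivation.leibniz, dX_apply, derivative_C, Pi.smul_apply, smul_eq_mul]
    ring
  rwa [h5, map_smul] at h4

/-- The derivative of `c + u X^e` is associated to `X^(e-1)` (characteristic zero). -/
theorem exists_unit {Ω : Type*} [Field Ω] [CharZero Ω] (c : Ω) {u : Ω⟦X⟧} (hu : IsUnit u) {e : ℕ} (he : 1 ≤ e) :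
    ∃ w : Ω⟦X⟧, IsUnit w ∧ PowerSeries.derivative Ω (C c + u * X ^ e) = w * X ^ (e - 1) := by
  refine ⟨PowerSeries.derivative Ω u * X + u * (e : Ω⟦X⟧), ?_, ?_⟩
  · rw [PowerSeries.isUnit_iff_constantCoeff] at hu ⊢
    rw [map_add, map_mul, constantCoeff_X, mul_zero, zero_add, map_mul, map_natCast]
    refine hu.mul ?_
    rw [isUnit_iff_ne_zero]
    exact_mod_cast (show e ≠ 0 by omega)
  · obtain ⟨n, rfl⟩ : ∃ n, e = n + 1 := ⟨e - 1, by omega⟩
    rw [map_add, derivative_C, zero_add, Derivation.leibniz, Derivation.leibniz_pow, derivative_X]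
    simp only [smul_eq_mul, Nat.add_sub_cancel, nsmul_eq_mul, mul_one, pow_succ]
    ring

omit [Fintype ι] in
theorem gen_killed {α β : ι → Ω} {c : Ω} {u : Ω⟦X⟧} (hu : IsUnit u) {e : ℕ} (he : 1 ≤ e)
    (κ : (ι → Ω⟦X⟧) →ₗ[Ω⟦X⟧] H)
    (hD : ∀ D : Derivation k Ω⟦X⟧ Ω⟦X⟧, κ (fun i => D (C (α i) + (C c + u * X ^ e) * C (β i))) = 0) :
    (X : Ω⟦X⟧) ^ (e - 1) • κ (fun i => C (β i)) = 0 := by
  have hΩ : CharZero Ω := charZero_of_injective_algebraMap (algebraMap k Ω).injective
  obtain ⟨w, hw, h1⟩ := exists_unit c hu he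
  have h2 := deriv_smul _ κ hD
  rw [h1, mul_smul] at h2
  exact (hw.smul_eq_zero).1 h2

/-- **The abstract KS4.** -/
theorem ks4 {α β : ι → Ω} (hαβ : AlgebraicIndependent k (Sum.elim α β)) {c : Ω} {u : Ω⟦X⟧} (hu : IsUnit u)
    {e : ℕ} (he : 1 ≤ e) (κ : (ι → Ω⟦X⟧) →ₗ[Ω⟦X⟧] H) (hκ : Function.Surjective κ)
    (hD : ∀ D : Derivation k Ω⟦X⟧ Ω⟦X⟧, κ (fun i => D (C (α i) + (C c + u * X ^ e) * C (β i))) = 0) :
    ∃ j, j ≤ e - 1 ∧ Nonempty (H ≃ₗ[Ω⟦X⟧] Ω⟦X⟧ ⧸ Ideal.span {(X : Ω⟦X⟧) ^ j}) := by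
  classical
  let g : H := κ (fun i => C (β i))
  let φ : Ω⟦X⟧ →ₗ[Ω⟦X⟧] H := LinearMap.toSpanSingleton Ω⟦X⟧ H g
  have hφ : Function.Surjective φ := fun h => by
    obtain ⟨a, rfl⟩ := exists_gen hαβ _ κ hκ hD h
    exact ⟨a, rfl⟩
  have hk : (X : Ω⟦X⟧) ^ (e - 1) ∈ LinearMap.ker φ := by
    rw [LinearMap.mem_ker]
    exact gen_killed hu he κ hD
  obtain ⟨j, hj⟩ : ∃ j, LinearMap.ker φ = Ideal.span {(X : Ω⟦X⟧) ^ j} := by
    have h0 : (LinearMap.ker φ : Ideal Ω⟦X⟧) ≠ ⊥ := fun h => by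
      rw [h, Ideal.mem_bot] at hk
      exact pow_ne_zero _ PowerSeries.X_ne_zero hk
    exact IsDiscreteValuationRing.ideal_eq_span_pow_irreducible h0 PowerSeries.X_prime.irreducible
  refine ⟨j, ?_, ⟨((Submodule.quotEquivOfEq _ _ hj).symm.trans (φ.quotKerEquivOfSurjective hφ)).symm⟩⟩
  rw [hj, Ideal.mem_span_singleton] at hk
  exact (pow_dvd_pow_iff PowerSeries.X_ne_zero PowerSeries.X_prime.not_isUnit).1 hk

end ks4

section ks3

variable {k Ω : Type*} [Field k] [CharZero k] [Field Ω] [Algebra k Ω] {ι : Type*}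
  {H : Type*} [AddCommGroup H] [Module Ω H]

/-- **The abstract KS3.** -/
theorem exists_gen₀ {α β : ι → Ω} (hαβ : AlgebraicIndependent k (Sum.elim α β)) (c : Ω)
    (κ : (ι → Ω) →ₗ[Ω] H) (hκ : Function.Surjective κ)
    (hD : ∀ D : Derivation k Ω Ω, κ (fun i => D (α i + c * β i)) = 0) (h : H) :
    ∃ a : Ω, h = a • κ β := by
  obtain ⟨v, rfl⟩ := hκ h
  obtain ⟨D, hD'⟩ := exists_der hαβ (Sum.elim v 0)
  have h2 : ∀ i, D (α i) = v i := fun i => hD' (Sum.inl i)
  have h3 : ∀ i, D (β i) = 0 := fun i => hD' (Sum.inr i)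
  have h4 := hD D
  have h5 : (fun i => D (α i + c * β i)) = v + D c • β := by
    funext i
    simp only [map_add, Derivation.leibniz, h2, h3, Pi.add_apply,
      Pi.smul_apply, smul_eq_mul]
    ring
  rw [h5, map_add, map_smul] at h4
  exact ⟨-D c, by rw [eq_neg_of_add_eq_zero_left h4, neg_smul]⟩

theorem finrank_le_one {α β : ι → Ω} (hαβ : AlgebraicIndependent k (Sum.elim α β)) (c : Ω)
    (κ : (ι → Ω) →ₗ[Ω] H) (hκ : Function.Surjective κ)
    (hD : ∀ D : Derivation k Ω Ω, κ (fun i => D (α i + c * β i)) = 0) : Module.finrank Ω H ≤ 1 :=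
  _root_.finrank_le_one (κ β) fun h => by
    obtain ⟨a, ha⟩ := exists_gen₀ hαβ c κ hκ hD h
    exact ⟨a, ha.symm⟩

/-- **The abstract KS3 at the generic point.** -/
theorem subsingleton_of_indep {γ : ι → Ω} (hγ : AlgebraicIndependent k γ)
    (κ : (ι → Ω) →ₗ[Ω] H) (hκ : Function.Surjective κ)
    (hD : ∀ D : Derivation k Ω Ω, κ (fun i => D (γ i)) = 0) : Subsingleton H := by
  refine ⟨fun a b => ?_⟩
  have h1 : ∀ a : H, a = 0 := fun a => by
    obtain ⟨v, rfl⟩ := hκ a
    obtain ⟨D, hD'⟩ := exists_der hγ v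
    have h2 := hD D
    simp only [hD'] at h2
    exact h2
  rw [h1 a, h1 b]

end ks3

end K997.KsAlg
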