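import Groth.Agent.BunMod.K890.KSDefs
import Groth.Agent.BunMod.K997.KsAlg

/-!
# (K3): the consequences of `KSMain` over a field and over `Ω⟦X⟧` (helper997)

* `exists_gen_field`: over `Ω`, at `a + s b` with `a`, `b` jointly algebraically independent: `H¹(X, S^∨ ⊗ Q)` is
  generated by one element; `subsingleton_field`: it vanishes at an algebraically independent point;
* `exists_gen_dvr`: over `Ω⟦X⟧`, along `a + τ b` with `τ' = unit · X^m`: it is generated by one element killed by `X^m`.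
-/

set_option autoImplicit false
universe u

open CategoryTheory CategoryTheory.Limits AlgebraicGeometry PowerSeries

namespace K997.KS3

open K140.BM K524.X1Fam K311.KE Groth.Agent Groth.Agent.LoccohB.HHmap Groth.Agent.LoccohB.SectLin303 K890.KS

variable {k : Type u} [Field k] {X : Scheme.{u}} [X.Over (Spec (CommRingCat.of k))] {K G : X.Modules} {M : ℕ}
  (e : Fin M → (K ⟶ G))

section gen

variable {A : Type u} [CommRing A] [Algebra k A] {H : (PicF.XT (st k X) (SpA k A)).Modules}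

/-- `R¹` as a module over `A`. -/
noncomputable abbrev modA : Module A (R1 (k := k) A H) := Module.compHom _ (fn k (A := A))

/-- An additive map compatible with the multiplications is linear. -/
noncomputable def lin (κ : (Fin M → A) →+ R1 (k := k) A H)
    (h : ∀ (a : A) (v : Fin M → A), κ (a • v) = fn k a • κ v) :
    letI := modA (k := k) (A := A) (H := H)
    (Fin M → A) →ₗ[A] R1 (k := k) A H :=
  letI := modA (k := k) (A := A) (H := H)
  { κ with map_smul' := h }

end gen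

variable {Ω : Type u} [Field Ω] [Algebra k Ω]

/-- **(K3), field.** -/
theorem exists_gen_field [CharZero k] {a b : Fin M → Ω} (hab : AlgebraicIndependent k (Sum.elim a b)) (s : Ω)
    (h : KSMain (k := k) e Ω fun i => a i + s * b i)
    {S Q : (PicF.XT (st k X) (SpA k Ω)).Modules} (i : S ⟶ VA e Ω fun i => a i + s * b i)
    (p : (VA e Ω fun i => a i + s * b i) ⟶ Q) (w : i ≫ p = 0) (hS : (ShortComplex.mk i p w).ShortExact)
    (hSf : FlatMod.IsFinLocFree S) (hQf : FlatMod.IsFinLocFree Q) :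
    ∃ h₀ : R1 (k := k) Ω (CohB1.tensorMod (RefHull.dual S) Q), ∀ x, ∃ r : Ω, x = fn k r • h₀ := by
  obtain ⟨κ, hκ, hl, hδ⟩ := h S Q i p w hS hSf hQf
  letI := modA (k := k) (A := Ω) (H := CohB1.tensorMod (RefHull.dual S) Q)
  exact ⟨κ b, KsAlg.exists_gen₀ hab s (lin κ hl) hκ hδ⟩

/-- **(K3), generic point.** -/
theorem subsingleton_field [CharZero k] {c : Fin M → Ω} (hc : AlgebraicIndependent k c)
    (h : KSMain (k := k) e Ω c)
    {S Q : (PicF.XT (st k X) (SpA k Ω)).Modules} (i : S ⟶ VA e Ω c)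
    (p : VA e Ω c ⟶ Q) (w : i ≫ p = 0) (hS : (ShortComplex.mk i p w).ShortExact)
    (hSf : FlatMod.IsFinLocFree S) (hQf : FlatMod.IsFinLocFree Q) :
    Subsingleton (R1 (k := k) Ω (CohB1.tensorMod (RefHull.dual S) Q)) := by
  obtain ⟨κ, hκ, hl, hδ⟩ := h S Q i p w hS hSf hQf
  letI := modA (k := k) (A := Ω) (H := CohB1.tensorMod (RefHull.dual S) Q)
  exact KsAlg.subsingleton_of_indep hc (lin κ hl) hκ hδ

/-- **(K3), power series.** -/
theorem exists_gen_dvr [CharZero k] {a b : Fin M → Ω} (hab : AlgebraicIndependent k (Sum.elim a b))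
    {τ u : Ω⟦X⟧} {m : ℕ} (hu : IsUnit u) (hτ : PowerSeries.derivative Ω τ = u * PowerSeries.X ^ m)
    (h : KSMain (k := k) e Ω⟦X⟧ fun i => C (a i) + τ * C (b i))
    {S Q : (PicF.XT (st k X) (SpA k Ω⟦X⟧)).Modules} (i : S ⟶ VA e Ω⟦X⟧ fun i => C (a i) + τ * C (b i))
    (p : (VA e Ω⟦X⟧ fun i => C (a i) + τ * C (b i)) ⟶ Q) (w : i ≫ p = 0) (hS : (ShortComplex.mk i p w).ShortExact)
    (hSf : FlatMod.IsFinLocFree S) (hQf : FlatMod.IsFinLocFree Q) :
    ∃ h₀ : R1 (k := k) Ω⟦X⟧ (CohB1.tensorMod (RefHull.dual S) Q),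
      (∀ x, ∃ r : Ω⟦X⟧, x = fn k r • h₀) ∧ fn k (PowerSeries.X ^ m : Ω⟦X⟧) • h₀ = 0 := by
  obtain ⟨κ, hκ, hl, hδ⟩ := h S Q i p w hS hSf hQf
  letI := modA (k := k) (A := Ω⟦X⟧) (H := CohB1.tensorMod (RefHull.dual S) Q)
  refine ⟨κ fun i => C (b i), KsAlg.exists_gen hab τ (lin κ hl) hκ hδ, ?_⟩
  have h2 := KsAlg.deriv_smul τ (lin κ hl) hδ
  rw [hτ, mul_smul] at h2
  exact (hu.smul_eq_zero).1 h2

end K997.KS3
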